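import Mathlib
import Groth.Agent.Lib.Helper8.Depth14

set_option autoImplicit false
set_option linter.unusedSectionVars false
set_option linter.unusedVariables false
set_option linter.unusedSimpArgs false
set_option linter.style.haveILetI false
set_option maxHeartbeats 400000

/-!
# The dimension of a localized finite module as a height in the quotient by the annihilator
-/

universe u

namespace Groth.Agent.Lib.Helper6.GrDim

open Groth.Agent.Helper8.Depth

variable {R : Type u} [CommRing R]

theorem primeCompl_map_mk (I p : Ideal R) [hp : p.IsPrime] (hIp : I ≤ p)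
    [(p.map (Ideal.Quotient.mk I)).IsPrime] :
    Algebra.algebraMapSubmonoid (R ⧸ I) p.primeCompl =
      (p.map (Ideal.Quotient.mk I)).primeCompl := by
  ext y
  constructor
  · rintro ⟨x, hx, rfl⟩
    show Ideal.Quotient.mk I x ∉ p.map (Ideal.Quotient.mk I)
    rw [Ideal.mem_quotient_iff_mem hIp]
    exact hx
  · intro hy
    obtain ⟨x, rfl⟩ := Ideal.Quotient.mk_surjective y
    refine ⟨x, ?_, rfl⟩
    intro hx
    exact hy (Ideal.mem_map_of_mem _ hx)

theorem isPrime_map_mk (I p : Ideal R) [hp : p.IsPrime] (hIp : I ≤ p) :
    (p.map (Ideal.Quotient.mk I)).IsPrime :=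
  Ideal.map_isPrime_of_surjective Ideal.Quotient.mk_surjective (by rwa [Ideal.mk_ker])

/-- `dim M_p = ht (p / ann M)` -/
theorem supportDim_localizedModule_eq_height (M : Type u) [AddCommGroup M] [Module R M]
    [Module.Finite R M] (p : Ideal R) [hp : p.IsPrime] (hIp : Module.annihilator R M ≤ p) :
    Module.supportDim (Localization.AtPrime p) (LocalizedModule p.primeCompl M) =
      ((p.map (Ideal.Quotient.mk (Module.annihilator R M))).height : WithBot ℕ∞) := by
  set I := Module.annihilator R M with hI
  set J := I.map (algebraMap R (Localization.AtPrime p)) with hJ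
  have h1 : Module.support (Localization.AtPrime p) (LocalizedModule p.primeCompl M) =
      Module.support (Localization.AtPrime p) (Localization.AtPrime p ⧸ J) := by
    ext q'
    rw [mem_support_localizedModule_iff, Module.support_eq_zeroLocus, Module.support_eq_zeroLocus,
      Ideal.annihilator_quotient, PrimeSpectrum.mem_zeroLocus, PrimeSpectrum.mem_zeroLocus]
    show (I : Set R) ⊆ (q'.asIdeal.comap (algebraMap R (Localization.AtPrime p)) : Set R) ↔ _
    rw [SetLike.coe_subset_coe, SetLike.coe_subset_coe, hJ, Ideal.map_le_iff_le_comap]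
  rw [supportDim_eq_of_support_eq h1, Module.supportDim_quotient_eq_ringKrullDim]
  haveI := isPrime_map_mk I p hIp
  haveI : IsLocalization.AtPrime (Localization.AtPrime p ⧸ J) (p.map (Ideal.Quotient.mk I)) := by
    show IsLocalization (p.map (Ideal.Quotient.mk I)).primeCompl _
    rw [← primeCompl_map_mk I p hIp]
    infer_instance
  exact IsLocalization.AtPrime.ringKrullDim_eq_height (p.map (Ideal.Quotient.mk I)) _

end Groth.Agent.Lib.Helper6.GrDim
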