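import Mathlib
import Groth.Agent.Lib.Helper6.GrDim.GDa
import Groth.Agent.Lib.Helper6.GrHt.Rank

set_option autoImplicit false
set_option linter.unusedSectionVars false
set_option linter.unusedVariables false
set_option linter.unusedSimpArgs false
set_option linter.style.haveILetI false
set_option maxHeartbeats 400000

/-!
# `dim M_p = dim M_{p*} + ht (p / p*)` for a finite graded module
-/

universe u

namespace Groth.Agent.Lib.Helper6.GrDim

open DirectSum Groth.Agent.Lib.Helper6.GrHt

section Ann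

variable {ι : Type*} [AddCommGroup ι] [DecidableEq ι] {R : Type u} [CommRing R]
  (𝒜 : ι → AddSubgroup R) [GradedRing 𝒜] {M : Type*} [AddCommGroup M] [Module R M]
  (ℳ : ι → AddSubgroup M) [DirectSum.Decomposition ℳ] [SetLike.GradedSMul 𝒜 ℳ]

theorem decompose_smul_of_mem {m : M} {j : ι} (hm : m ∈ ℳ j) (r : R) (i : ι) :
    ((decompose ℳ (r • m)) (i + j) : M) = (decompose 𝒜 r i : R) • m := by
  classical
  conv_lhs => rw [← sum_support_decompose 𝒜 r]
  rw [Finset.sum_smul, decompose_sum, DFinsupp.finsetSum_apply, AddSubmonoidClass.coe_finsetSum]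
  have hmem : ∀ k, (decompose 𝒜 r k : R) • m ∈ ℳ (k + j) := fun k => by
    have := SetLike.GradedSMul.smul_mem (A := 𝒜) (B := ℳ) (decompose 𝒜 r k).2 hm
    rwa [vadd_eq_add] at this
  rw [Finset.sum_eq_single i]
  · exact decompose_of_mem_same ℳ (hmem i)
  · intro k _ hk
    exact decompose_of_mem_ne ℳ (hmem k) (fun h => hk (add_right_cancel h))
  · intro hi
    rw [DFinsupp.notMem_support_iff] at hi
    rw [hi]
    simp

include ℳ in
/-- the annihilator of a graded module is a homogeneous ideal -/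
theorem annihilator_isHomogeneous : (Module.annihilator R M).IsHomogeneous 𝒜 := by
  intro i r hr
  rw [Module.mem_annihilator] at hr ⊢
  intro m
  induction m using DirectSum.Decomposition.inductionOn ℳ with
  | zero => exact smul_zero _
  | @homogeneous j m =>
    rw [← decompose_smul_of_mem 𝒜 ℳ m.2 r i, hr, decompose_zero]
    rfl
  | add a b ha hb => rw [smul_add, ha, hb, add_zero]

end Ann

section Core

variable {ι : Type*} [AddCommGroup ι] [DecidableEq ι] {R : Type u} [CommRing R]
  (𝒜 : ι → AddSubgroup R) [GradedRing 𝒜]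

theorem core_eq_span (p : Ideal R) :
    core 𝒜 p = Ideal.span {x | SetLike.IsHomogeneousElem 𝒜 x ∧ x ∈ p} := by
  apply le_antisymm
  · show (Ideal.homogeneousCore' 𝒜 p) ≤ _
    unfold Ideal.homogeneousCore'
    refine Ideal.span_mono ?_
    rintro _ ⟨x, hx, rfl⟩
    exact ⟨x.2, hx⟩
  · refine Ideal.span_le.2 ?_
    rintro x ⟨⟨i, hx⟩, hxp⟩
    exact mem_core_of_mem 𝒜 hx hxp

/-- the core of the image in the quotient by a homogeneous ideal -/
theorem core_map_mk (I p : Ideal R) (hI : I.IsHomogeneous 𝒜) (hIp : I ≤ p) :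
    letI := quotGradedRing 𝒜 I hI
    core (quotGrading 𝒜 I) (p.map (Ideal.Quotient.mk I)) =
      (core 𝒜 p).map (Ideal.Quotient.mk I) := by
  letI := quotGradedRing 𝒜 I hI
  apply le_antisymm
  · rw [core_eq_span]
    refine Ideal.span_le.2 ?_
    rintro y ⟨⟨i, x, hx, rfl⟩, hyp⟩
    have hxp : x ∈ p := (Ideal.mem_quotient_iff_mem hIp).1 hyp
    exact Ideal.mem_map_of_mem _ (mem_core_of_mem 𝒜 hx hxp)
  · refine le_core_of_isHomogeneous (quotGrading 𝒜 I) ?_ (Ideal.map_mono (core_le 𝒜 p))
    rw [core_eq_span, Ideal.map_span]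
    refine Ideal.homogeneous_span _ _ ?_
    rintro _ ⟨x, ⟨⟨i, hx⟩, -⟩, rfl⟩
    exact ⟨i, x, hx, rfl⟩

end Core

section Main

variable {ι : Type} [AddCommGroup ι] [DecidableEq ι] [Module.Free ℤ ι] [Module.Finite ℤ ι]
  {R : Type u} [CommRing R] [IsNoetherianRing R] (𝒜 : ι → AddSubgroup R) [GradedRing 𝒜]

/-- the height formula, with no domain hypothesis -/
theorem height_eq_core_add (p : Ideal R) [p.IsPrime] [(core 𝒜 p).IsPrime] :
    p.height = (core 𝒜 p).height + (p.map (Ideal.Quotient.mk (core 𝒜 p))).height := by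
  obtain ⟨h1, h2⟩ := Q_all.{u} (Module.finrank ℤ ι) ι (Module.finBasis ℤ ι) R 𝒜 p
  apply le_antisymm h2
  exact height_add_height_map_le (core 𝒜 p) p (core_le 𝒜 p)

theorem height_map_map_mk (I c p : Ideal R) (hIc : I ≤ c) :
    ((p.map (Ideal.Quotient.mk I)).map
      (Ideal.Quotient.mk (c.map (Ideal.Quotient.mk I)))).height =
      (p.map (Ideal.Quotient.mk c)).height := by
  set e := DoubleQuot.quotQuotEquivQuotOfLE hIc with he
  set K := (p.map (Ideal.Quotient.mk I)).map
      (Ideal.Quotient.mk (c.map (Ideal.Quotient.mk I))) with hK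
  rw [← RingEquiv.height_map e K]
  congr 1
  have h3 : K.map e = K.map (e : _ →+* R ⧸ c) := (Ideal.map_coe e K).symm
  have h4 : ((e : _ →+* R ⧸ c).comp (Ideal.Quotient.mk (c.map (Ideal.Quotient.mk I)))).comp
      (Ideal.Quotient.mk I) = Ideal.Quotient.mk c := by
    ext x
    rfl
  rw [h3, hK, Ideal.map_map, Ideal.map_map, h4]

variable (M : Type u) [AddCommGroup M] [Module R M] [Module.Finite R M]
  (ℳ : ι → AddSubgroup M) [DirectSum.Decomposition ℳ] [SetLike.GradedSMul 𝒜 ℳ]

include ℳ in
theorem supportDim_localization_eq_add_height_core (p : Ideal R) [p.IsPrime]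
    [hc : (core 𝒜 p).IsPrime] (d : ℕ)
    (hd : (p.map (Ideal.Quotient.mk (core 𝒜 p))).height = d)
    (hsupp : Nontrivial (LocalizedModule p.primeCompl M)) :
    Module.supportDim (Localization.AtPrime p) (LocalizedModule p.primeCompl M) =
      Module.supportDim (Localization.AtPrime (core 𝒜 p))
        (LocalizedModule (core 𝒜 p).primeCompl M) + (d : WithBot ℕ∞) := by
  set I := Module.annihilator R M with hI
  have hIhom : I.IsHomogeneous 𝒜 := annihilator_isHomogeneous 𝒜 ℳ
  have hIp : I ≤ p := by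
    have h1 : (⟨p, inferInstance⟩ : PrimeSpectrum R) ∈ Module.support R M :=
      Module.mem_support_iff.2 hsupp
    rw [Module.support_eq_zeroLocus, PrimeSpectrum.mem_zeroLocus] at h1
    exact h1
  have hIc : I ≤ core 𝒜 p := le_core_of_isHomogeneous 𝒜 hIhom hIp
  rw [supportDim_localizedModule_eq_height M p hIp,
    supportDim_localizedModule_eq_height M (core 𝒜 p) hIc]
  letI := quotGradedRing 𝒜 I hIhom
  haveI := isPrime_map_mk I p hIp
  have hcm := core_map_mk 𝒜 I p hIhom hIp
  haveI hcp : (core (quotGrading 𝒜 I) (p.map (Ideal.Quotient.mk I))).IsPrime := by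
    rw [hcm]
    exact isPrime_map_mk I (core 𝒜 p) hIc
  have h1 := height_eq_core_add (quotGrading 𝒜 I) (p.map (Ideal.Quotient.mk I))
  have h2 : ((p.map (Ideal.Quotient.mk I)).map (Ideal.Quotient.mk
      (core (quotGrading 𝒜 I) (p.map (Ideal.Quotient.mk I))))).height = d := by
    rw [← hd, ← height_map_map_mk I (core 𝒜 p) p hIc]
    congr 2 <;> rw [hcm]
  rw [h1, h2, hcm]
  push_cast
  rfl

end Main

end Groth.Agent.Lib.Helper6.GrDim
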